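/-
Abstract split endgame: transfer and the final commutation.
-/
import Cfsg.Agent.Se.C
set_option autoImplicit false
set_option linter.unusedSectionVars false

namespace CF.Se
open Subgroup Cfsg CF.BG CF.Sig CF.Ab2
open scoped commutatorElement

variable {G : Type*} [Group G] [Finite G]
variable {t z f g k m a b c s u x y : G} {A E H K P R S U X : Subgroup G}

theorem le_of_idx [K.Normal] (i : K.index = 2) (s : Syl 2 P X) (l : P ≤ K) : X ≤ K :=
  relIndex_eq_one.1 (PiNat.eq_one ((piNat_self p2).dvd (i ▸ relIndex_dvd_index_of_normal K X)) (s.idx_of_le l))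

namespace Sp
variable (h : Sp t A S z)
include h

theorem pV : P2 (zpowers z ⊔ zpowers (t * z * t)) :=
  (e2 h.zz).zpowers.sup (e2 h.ww).zpowers (.inl (norm_of_cent (by rw [cent_zpowers, zpowers_le]; exact mem_cent1.2 h.zw)))

theorem nV : 𝐂₁ (z * (t * z * t)) ≤ 𝐍 (zpowers z ⊔ zpowers (t * z * t)) := fun c hc => cj_eq_self.1 (by
  rw [cj_sup, cj_zpowers, cj_zpowers]
  rcases h.fix hc with e | e
  · have := GW.conj_eq_of_comm (mem_cent1.1 hc)
    rw [← conj_mul, e, mul_right_inj] at this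
    rw [e, this]
  · rw [e, h.fix' hc e, sup_comm])

theorem nsw2 (hm : m ∈ M0 t A) (l : k * z * k⁻¹ ∈ S) (e : m * (k * z * k⁻¹) * m⁻¹ = k * (t * z * t) * k⁻¹) : False :=
  (h.pure (isc k z) l).elim
    (fun p => h.ipA (mul_mem p (e ▸ conj_mem_of_norm hm.1 p)) h.mxu (by rw [conj_mul]; exact (isc k _).symm))
    fun p => h.ipB (mul_mem p (e ▸ conj_mem_of_norm hm.2 p)) h.mxu (by rw [conj_mul]; exact (isc k _).symm)

theorem pureM (c : IsConj z y) (hy : y ∈ S) : y ∈ M0 t A := h.nsw c hy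

theorem sa (hu : g * (z * (t * z * t)) * g⁻¹ ∈ S) : g * (z * (t * z * t)) * g⁻¹ ∈ M0 t A := by_contra fun n => by
  have k := (h.lS _ hu).resolve_left n
  obtain ⟨R, l, -, d⟩ := diag (U := S ⊓ A) (conj_sq (h.mx_sq h.mxu) g) (fun x hx => cent_anti inf_le_right (h.cm' (by
    obtain ⟨a, ha, rfl⟩ := mem_cj_iff.1 hx; exact swA h.tt k ha.2))) h.pS.inf_left
  have m := der_mono l (d z h.zd)
  rw [h.sw_z hu n, ← cj_cent1, ← cj_comm, mem_cj] at m
  have c1 := mem_cent1.1 (der_le2 h.two' m)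
  have c2 := mem_cent1.1 (der_le _ m)
  have l' : cj g (zpowers z ⊔ zpowers (t * z * t)) ≤ 𝐂₁ (z * (t * z * t)) := by
    rw [le_cent1_iff, ← cj_cent, mem_cj, cent_sup, cent_zpowers, cent_zpowers]
    refine ⟨mem_cent1.2 c1, mem_cent1.2 ?_⟩
    rwa [← mul_assoc _ z, c1, mul_assoc z, mul_assoc z, mul_right_inj] at c2
  obtain ⟨f, -, lS⟩ := h.syl.syl_cj_le le_top ((h.pV.cj g).sup h.pV (.inl (l'.trans h.nV)))
  have m1 := lS (conj_mem_cj.2 (mem_sup_left (conj_mem_cj.2 (mem_sup_left (mem_zpowers z)))))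
  have m2 := lS (conj_mem_cj.2 (mem_sup_left (conj_mem_cj.2 (mem_sup_right (mem_zpowers (t * z * t))))))
  refine h.nsw2 (mul_mem (h.pureM ((isc g z).trans (isc f _)) m1) (h.pureM (((isct h.tt z).trans (isc g _)).trans (isc f _)) m2))
    (lS (conj_mem_cj.2 (mem_sup_right (mem_sup_left (mem_zpowers z))))) ?_
  rw [conj_mul, conj_mul]
  conv_rhs => rw [← h.sw_z hu n]
  group

theorem sb0 (hx : x ∈ S) (n : x ∉ M0 t A) (m : g * x * g⁻¹ ∈ S ⊓ M0 t A) (m' : g * (z * (t * z * t)) * g⁻¹ ∈ S ⊓ M0 t A) : False := by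
  have c := h.zc _ m.1 m.2
  have l : zpowers (g * x * g⁻¹) ⊔ zpowers z ≤ 𝐍 (cj g (zpowers z ⊔ zpowers (t * z * t))) := by
    rw [← cj_norm]
    refine le_trans ?_ (cj_mono g h.nV)
    rw [cj_cent1]
    exact sup_le (zpowers_le.2 (mem_cent1.2 (conj_comm' (mem_cent1.1 (h.Su hx)) g))) (zpowers_le.2 (mem_cent1.2 (h.zc _ m'.1 m'.2).symm))
  obtain ⟨f, -, lS⟩ := h.syl.syl_cj_le le_top ((h.pS.le (sup_le (zpowers_le.2 m.1) (zpowers_le.2 h.zS))).sup (h.pV.cj g) (.inl l))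
  have m1 := lS (conj_mem_cj.2 (mem_sup_left (mem_sup_right (mem_zpowers z))))
  refine h.nsw2 (k := f * g) (h.m0_of (lS (conj_mem_cj.2 (mem_sup_left (mem_sup_left (mem_zpowers _))))) (h.pure (isc f z) m1)
    (conj_sq h.zz f) (conj_ne h.z1 f) (conj_comm' c f)) ?_ ?_
  · simpa only [mul_inv_rev, mul_assoc] using lS (conj_mem_cj.2 (mem_sup_right (conj_mem_cj.2 (mem_sup_left (mem_zpowers z)))))
  · rw [← h.sw_z hx n]; group

theorem sb (hx : x ∈ S) (n : x ∉ M0 t A) (m : g * x * g⁻¹ ∈ S ⊓ M0 t A) : False := by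
  have c := h.zc _ m.1 m.2
  obtain ⟨R, sR, l⟩ := exists_syl_le (M := 𝐂₁ (g * x * g⁻¹)) (sup_le (zpowers_le.2 (self_mem_cent1 _)) (zpowers_le.2 (mem_cent1.2 c.symm)))
    (h.pS.le (sup_le (zpowers_le.2 m.1) (zpowers_le.2 h.zS)))
  obtain ⟨k, hk, l'⟩ := sR.syl_cj_le (zpowers_le.2 (mem_cent1.2 (conj_comm' (mem_cent1.1 (h.Su hx)).symm g)))
    (e2 (conj_sq (h.mx_sq h.mxu) g)).zpowers
  obtain ⟨f, -, lS⟩ := h.syl.syl_cj_le le_top sR.pi
  have m1 := lS (conj_mem_cj.2 (l (mem_sup_right (mem_zpowers z))))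
  have m2 := lS (conj_mem_cj.2 (l (mem_sup_left (mem_zpowers _))))
  have m3 : f * k * g * (z * (t * z * t)) * (f * k * g)⁻¹ ∈ S := by
    simpa only [mul_inv_rev, mul_assoc] using lS (conj_mem_cj.2 (l' (conj_mem_cj.2 (mem_zpowers _))))
  refine h.sb0 hx n ?_ ⟨m3, h.sa m3⟩
  rw [show f * k * g * x * (f * k * g)⁻¹ = f * (g * x * g⁻¹) * f⁻¹ by rw [← GW.conj_eq_of_comm (mem_cent1.1 hk)]; group]
  exact ⟨m2, h.m0_of m2 (h.pure (isc f z) m1) (conj_sq h.zz f) (conj_ne h.z1 f) (conj_comm' c f)⟩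

theorem exK : ∃ K : Subgroup G, K.Normal ∧ _root_.commutator G ≤ K ∧ K.index = 2 ∧ S ⊓ M0 t A ≤ K ∧ t ∉ K := by
  have two' := fun a ha b hb => two h.tt a (h.SM ha) b (h.SM hb)
  have i : (M0 t A).relIndex S = 2 := index_eq_two_iff.2 ⟨⟨t, h.tS⟩, fun s => by
    by_cases k : (s : G) ∈ M0 t A
    · exact .inr ⟨k, fun k' => h.tM0 ((mul_mem_cancel_left k).1 k')⟩
    · exact .inl ⟨(h.lS s s.2).resolve_left k, k⟩⟩
  obtain ⟨K, nK, l, d, e⟩ := CF.Transfer.exists_normal_of_transfer (der_le2 two')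
  have o : Odd S.index := by
    rw [← Nat.not_even_iff_odd, even_iff_two_dvd, ← relIndex_top_right]; exact h.syl.not_dvd p2
  have e' : ∀ x ∈ S, x ∈ K ↔ x ∈ M0 t A := fun x hx => by
    rw [e x hx fun k g hg => (mul_iff two' (inv_mem (pow_mem hx k)) hg).2 (inv_mem_iff.trans
      ⟨fun m => by_contra fun n => h.sb (g := g) hg n (by simpa [mul_assoc] using ⟨pow_mem hx k, m⟩),
        fun m => by_contra fun n => h.sb (g := g⁻¹) (pow_mem hx k) n (by rw [inv_inv]; exact ⟨hg, m⟩)⟩)]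
    obtain ⟨j, k⟩ := o
    rw [k, pow_succ, pow_mul, mul_mem_cancel_left (pow_mem (_root_.sq x ▸ (mul_iff two' hx hx).2 Iff.rfl) j)]
  have t0 : t ∉ K := fun k => h.tM0 ((e' t h.tS).1 k)
  exact ⟨K, nK, l, ((Nat.dvd_prime p2).1 (i ▸ d)).resolve_left fun k => t0 (index_eq_one.1 k ▸ mem_top t),
    fun x hx => (e' x hx.1).2 hx.2, t0⟩

theorem main' [K.Normal] (i : K.index = 2) (l : S ⊓ M0 t A ≤ K) (t0 : t ∉ K) (hx : x ∈ K) : Commute (x * z * x⁻¹) (t * z * t) := by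
  have MK : M0 t A ≤ K := le_of_idx i ((h.syl.of_le h.SM le_top).inf_normal ⟨le_sup_left, MM_M0 h.tt⟩) l
  have nz : ∀ x ∈ K, ∀ g ∈ K, g * (t * z * t) * g⁻¹ ≠ x * z * x⁻¹ := fun x hx g hg e =>
    t0 ((mul_mem_cancel_left (mul_mem (inv_mem hx) hg)).1 (le_of_idx i h.syl0 l (mem_cent1.2 (by
      calc _ = x⁻¹ * (g * (t * z * (t * t)) * g⁻¹) * g := by rw [h.tt]; group
        _ = x⁻¹ * (g * (t * z * t) * g⁻¹) * (g * t) := by group
        _ = _ := by rw [e]; group))))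
  have a2 := conj_sq h.zz x
  obtain ⟨c, o, hc, ho, pc, po, e⟩ := exists_piPart {2} (x * z * x⁻¹ * (t * z * t))
  have ia := GW.inv_zpowers (a := x * z * x⁻¹) (x := x * z * x⁻¹ * (t * z * t)) (by
    rw [← mul_assoc, a2, one_mul, mul_inv_rev (x * z * x⁻¹), inv_eq_of_mul_eq_one_right h.ww])
  have ib := GW.inv_zpowers (a := t * z * t) (x := x * z * x⁻¹ * (t * z * t)) (by
    rw [← mul_assoc, mul_inv_cancel_right, mul_inv_rev (x * z * x⁻¹), inv_eq_of_mul_eq_one_right h.ww, inv_eq_of_mul_eq_one_right a2])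
  obtain ⟨j, ej⟩ := GW.mem_zpowers_sq (eo_iff.2 po)
  have yo : o ^ j ∈ zpowers o := zpow_mem (mem_zpowers o) j
  have yy : o ^ j * o ^ j = o := by rw [← (Commute.refl o).mul_zpow]; exact ej
  generalize o ^ j = y at yo yy
  have eb : y * (t * z * t) * y⁻¹ = t * z * t * o⁻¹ := by
    have := ib _ (inv_mem (zpowers_le.2 ho yo))
    rw [inv_inv, mul_inv_eq_iff_eq_mul] at this
    rw [← this, ← yy, mul_inv_rev, mul_assoc _ y⁻¹]
  have ec : x * z * x⁻¹ * (y * (t * z * t) * y⁻¹) = c := by rw [eb, ← mul_assoc, ← e, mul_inv_cancel_right]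
  obtain ⟨g, hg, lS⟩ : ∃ g ∈ K, cj g (zpowers (x * z * x⁻¹) ⊔ zpowers c) ≤ S := by
    obtain ⟨g, -, lS⟩ := h.syl.syl_cj_le le_top ((e2 a2).zpowers.sup pc.zpowers (.inl (zpowers_le.2 (ia.norm (zpowers_le.2 hc)))))
    by_cases k : g ∈ K
    · exact ⟨g, k, lS⟩
    · exact ⟨t * g, (mul_mem_iff_of_index_two i).2 (iff_of_false t0 k), cj_cj t g _ ▸ cj_le_of_mem h.tS lS⟩
  have m1 := lS (conj_mem_cj.2 (mem_sup_left (mem_zpowers _)))
  have m2 : g * (y * (t * z * t) * y⁻¹) * g⁻¹ ∈ S := lS (conj_mem_cj.2 ((mul_mem_cancel_left (mem_sup_left (mem_zpowers _))).1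
    (ec ▸ mem_sup_right (mem_zpowers _))))
  have c1 := (isc x z).trans (isc g _)
  have c2 := ((isct h.tt z).trans (isc y _)).trans (isc g _)
  have yK : y ∈ K := GW.mem_of_sq_mem (eo_iff.2 (po.of_mem_zpowers yo)) ((mul_mem_iff_of_index_two i).2 Iff.rfl)
  obtain ⟨p, hp, ep⟩ := h.rt _ ((h.pure c1 m1).resolve_right fun k => let ⟨q, hq, e⟩ := h.rt' k c1
    nz _ (mul_mem hg hx) q (MK (h.BM hq)) (by rw [e]; group)) c1
  obtain ⟨q, hq, eq⟩ := h.rt' ((h.pure c2 m2).resolve_left fun k => let ⟨q, hq, e⟩ := h.rt _ k c2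
    nz q (MK (h.AM hq)) _ (mul_mem hg yK) (by rw [e]; group)) c2
  have f1 : g⁻¹ * p * q * z * (g⁻¹ * p * q)⁻¹ = x * z * x⁻¹ := by
    calc _ = g⁻¹ * (p * (q * z * q⁻¹) * p⁻¹) * g := by group
      _ = _ := by rw [← h.comm h.zA hq, mul_inv_cancel_right, ep]; group
  have f2 : g⁻¹ * p * q * (t * z * t) * (g⁻¹ * p * q)⁻¹ = y * (t * z * t) * y⁻¹ := by
    calc _ = g⁻¹ * (p * (q * (t * z * t) * q⁻¹) * p⁻¹) * g := by group
      _ = _ := by rw [h.comm hp (mul_mem (mul_mem hq h.wB) (inv_mem hq)), mul_inv_cancel_right, eq]; group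
  generalize g⁻¹ * p * q = f at f1 f2
  have co : o ∈ cj f (𝐂₁ (z * (t * z * t))) := by
    rw [cj_cent1, ← conj_mul, f1, f2, ec]; exact mem_cent1.2 ((abel_zpowers _).mul_comm ho hc)
  have co' : o ∈ 𝐂₁ (x * z * x⁻¹) := by
    rw [← f1, ← cj_cent1, mem_cj]
    exact odd_mem h.two' (mem_cj.1 co) (by simpa only [inv_inv] using po.conj f⁻¹)
  have := conj_comm' h.zw f
  rwa [f1, f2, eb, GW.eq_one_of_inv_of_comm (ia o ho) (mem_cent1.1 co') (eo_iff.2 po), inv_one, mul_one] at this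

theorem main : ∀ x ∈ _root_.commutator G, Commute (x * z * x⁻¹) (t * z * t) := fun _ hx =>
  let ⟨_, _, l, i, l', t0⟩ := h.exK; h.main' i l' t0 (l hx)

protected theorem false [E.Normal] (s : NS E) (hz : z ∈ E) : False := by
  have l : E ≤ _root_.commutator G := s.perf.ge.trans (commutator_mono le_top le_top)
  rcases s.eq_or ⁅zpowers z, E⁆ ⟨commutator_le_right _ _, norm_comm_right _ _⟩ with e | e
  · exact h.z1 (s.eq_one hz (comm_eq_bot.1 e (mem_zpowers z)))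
  refine h.w1 (s.eq_one (by simpa only [ti h.tt] using ‹E.Normal›.conj_mem z hz t) (le_cent1_iff.1 (e.ge.trans
    (commutator_le.2 fun a ha x hx => ?_))))
  rcases mem_zp h.zz ha with rfl | rfl
  · simp
  rw [commutatorElement_def, inv_eq_of_mul_eq_one_right h.zz, mul_assoc _ x, mul_assoc _ (x * _)]
  exact mul_mem (mem_cent1.2 h.zw) (mem_cent1.2 (h.main x (l hx)))

end Sp

end CF.Se
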